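import Groth.Agent.VarBranch.PerfectNormal
import Groth.Agent.VarDim1.TotalRing
import Groth.Agent.CAlg6.FiniteClosure
import Mathlib.FieldTheory.IsPerfectClosure
import Mathlib.LinearAlgebra.TensorProduct.RightExactness

/-! Invariance of geometric branches under purely inseparable and, over a perfect field, any
extension of the base field. -/

universe u

open scoped TensorProduct nonZeroDivisors

namespace Groth.Agent.VarBranch

theorem isReduced_of_isNormalRing {D : Type u} [CommRing D] (hD : EGA4.IsNormalRing D) : IsReduced D := by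
  refine ⟨fun x hx => ?_⟩
  by_contra h0
  obtain ⟨P, hP, hle⟩ := Ideal.exists_le_maximal (Ideal.span {x} : Ideal D).annihilator (by
    rw [Ne, Submodule.annihilator_eq_top_iff, Ideal.span_singleton_eq_bot]; exact h0)
  obtain ⟨_, _⟩ := hD P
  have h1 : algebraMap D (Localization.AtPrime P) x = 0 := (hx.map _).eq_zero
  obtain ⟨⟨v, hv⟩, hv'⟩ := (IsLocalization.map_eq_zero_iff P.primeCompl _ x).1 h1
  exact hv (hle ((Submodule.mem_annihilator_span_singleton x v).2 hv'))

section Model

variable (R : Type u) [CommRing R] [IsNoetherianRing R]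

theorem isNormalRing_normRed : EGA4.IsNormalRing (CAlg2.normRed R) := fun P _ => by
  have : IsReduced (CAlg2.red R) := (Ideal.isRadical_iff_quotient_reduced _).1 (Ideal.radical_isRadical _)
  exact VarDim1.isDomain_and_isIntegrallyClosed_localization P

omit [IsNoetherianRing R] in
theorem ker_toNormRed : RingHom.ker (toNormRed R) = nilradical R := by
  ext x
  rw [RingHom.mem_ker]
  refine ⟨fun h => Ideal.Quotient.eq_zero_iff_mem.1 (IsFractionRing.injective (CAlg2.red R) (FractionRing (CAlg2.red R))
    ((congrArg Subtype.val h).trans (map_zero _).symm)), fun h => ?_⟩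
  show algebraMap (CAlg2.red R) (CAlg2.normRed R) _ = 0
  rw [Ideal.Quotient.eq_zero_iff_mem.2 h, map_zero]

omit [IsNoetherianRing R] in
theorem exists_den (d : CAlg2.normRed R) :
    ∃ s : R, toNormRed R s ∈ (CAlg2.normRed R)⁰ ∧ toNormRed R s * d ∈ (toNormRed R).range := by
  obtain ⟨a, t, h⟩ := IsLocalization.exists_mk'_eq (CAlg2.red R)⁰ d.1
  obtain ⟨s, hs⟩ := Ideal.Quotient.mk_surjective t.1
  obtain ⟨c, rfl⟩ := Ideal.Quotient.mk_surjective a
  refine ⟨s, mem_nonZeroDivisors_iff_right.2 fun z hz => Subtype.ext ?_, c, Subtype.ext ?_⟩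
  · have h1 : z.1 * algebraMap (CAlg2.red R) (FractionRing (CAlg2.red R)) t.1 = 0 := by
      rw [← hs]; exact congrArg Subtype.val hz
    exact (IsLocalization.map_units _ t).mul_left_eq_zero.1 h1
  · show algebraMap (CAlg2.red R) (FractionRing (CAlg2.red R)) _ = algebraMap (CAlg2.red R) _ (Ideal.Quotient.mk _ s) * d.1
    rw [hs, ← h, mul_comm, IsLocalization.mk'_spec]

theorem numGeomBranches_eq_pts_normRed (p : Ideal R) [p.IsPrime]
    (A : Type u) [CommRing A] [Algebra R A] [IsLocalization.AtPrime A p] [IsLocalRing A]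
    (Ω : Type u) [Field Ω] [IsAlgClosed Ω] (φ : R →+* Ω) (hφ : RingHom.ker φ = p) :
    Brnch.numGeomBranches A =
      ENat.card {σ : CAlg2.normRed R →+* Ω // σ.comp (toNormRed R) = φ} := by
  let : Algebra R (CAlg2.normRed R) := (toNormRed R).toAlgebra
  have : Algebra.IsIntegral R (CAlg2.normRed R) := ⟨toNormRed_isIntegral R⟩
  exact numGeomBranches_eq_pts_model (R := R) (D := CAlg2.normRed R) (ker_toNormRed R) (isNormalRing_normRed R)
    (exists_den R) (minimalPrimes.finite_of_isNoetherianRing R) p A Ω φ hφ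

theorem finiteType_normRed (k : Type u) [Field k] [Algebra k R] [Algebra.FiniteType k R] :
    Algebra.FiniteType k (CAlg2.normRed R) := by
  have : IsReduced (CAlg2.red R) := (Ideal.isRadical_iff_quotient_reduced _).1 (Ideal.radical_isRadical _)
  have hfin : Module.Finite (CAlg2.red R) (CAlg2.normRed R) :=
    VarDim1.finite_integralClosure fun P _ _ =>
      CAlg6.finite_integralClosure k (CAlg2.red R ⧸ P) (FractionRing (CAlg2.red R ⧸ P)) (FractionRing (CAlg2.red R ⧸ P))
  exact Algebra.FiniteType.trans (inferInstance : Algebra.FiniteType k (CAlg2.red R)) inferInstance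

end Model

section Radical

variable {k : Type u} [Field k] (p : ℕ) [ExpChar k p]
variable {R R' : Type u} [CommRing R] [CommRing R'] [IsNoetherianRing R] [IsNoetherianRing R']

set_option maxHeartbeats 800000 in
theorem numGeomBranches_eq_of_isPRadical [Algebra k R] (f : R →+* R') [IsPRadical f p]
    (q : Ideal R') [q.IsPrime] [(q.comap f).IsPrime]
    (A : Type u) [CommRing A] [Algebra R A] [IsLocalization.AtPrime A (q.comap f)] [IsLocalRing A]
    (B : Type u) [CommRing B] [Algebra R' B] [IsLocalization.AtPrime B q] [IsLocalRing B] :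
    Brnch.numGeomBranches A = Brnch.numGeomBranches B := by
  let Ω := AlgebraicClosure q.ResidueField
  let φ' : R' →+* Ω := (algebraMap q.ResidueField Ω).comp (algebraMap R' q.ResidueField)
  have hφ' : RingHom.ker φ' = q := by
    rw [RingHom.ker_comp_of_injective _ (algebraMap q.ResidueField Ω).injective, Ideal.ker_algebraMap_residueField]
  rw [numGeomBranches_eq_pts_normRed R (q.comap f) A Ω (φ'.comp f) (by rw [← RingHom.comap_ker, hφ']),
    numGeomBranches_eq_pts_normRed R' q B Ω φ' hφ']
  have hR : Nontrivial R := RingHom.domain_nontrivial (φ'.comp f)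
  have hR' : Nontrivial R' := RingHom.domain_nontrivial φ'
  have : ExpChar R p := expChar_of_injective_ringHom (algebraMap k R).injective p
  have : ExpChar R' p := expChar_of_injective_ringHom ((f.comp (algebraMap k R))).injective p
  have : ExpChar Ω p := expChar_of_injective_ringHom ((φ'.comp (f.comp (algebraMap k R)))).injective p
  have hp : 0 < p := expChar_pos k p
  have hker : ∀ x, f x = 0 → x ∈ nilradical R := fun x hx =>
    pNilradical_le_nilradical (IsPRadical.ker_le f p hx)
  let r : CAlg2.red R →+* CAlg2.red R' :=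
    Ideal.quotientMap _ f fun x hx => mem_nilradical.2 ((mem_nilradical.1 hx).map f)
  have hrmk : ∀ x, r (Ideal.Quotient.mk _ x) = Ideal.Quotient.mk _ (f x) := fun x => rfl
  have hrinj : Function.Injective r := by
    refine (injective_iff_map_eq_zero r).2 fun x hx => ?_
    obtain ⟨x, rfl⟩ := Ideal.Quotient.mk_surjective x
    rw [hrmk, Ideal.Quotient.eq_zero_iff_mem, mem_nilradical] at hx
    rw [Ideal.Quotient.eq_zero_iff_mem, mem_nilradical]
    obtain ⟨n, hn⟩ := hx
    rw [← map_pow] at hn
    obtain ⟨m, hm⟩ := mem_nilradical.1 (hker _ hn)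
    exact ⟨n * m, by rw [pow_mul, hm]⟩
  have hrpow : ∀ b : CAlg2.red R', ∃ (n : ℕ) (a : CAlg2.red R), r a = b ^ p ^ n := fun b => by
    obtain ⟨b, rfl⟩ := Ideal.Quotient.mk_surjective b
    obtain ⟨n, a, ha⟩ := IsPRadical.pow_mem f p b
    exact ⟨n, Ideal.Quotient.mk _ a, by rw [hrmk, ha, map_pow]⟩
  have : IsReduced (CAlg2.red R) := (Ideal.isRadical_iff_quotient_reduced _).1 (Ideal.radical_isRadical _)
  have : IsReduced (CAlg2.red R') := (Ideal.isRadical_iff_quotient_reduced _).1 (Ideal.radical_isRadical _)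
  have hnzd : (CAlg2.red R)⁰ ≤ (CAlg2.red R')⁰.comap r := fun s hs =>
    mem_nonZeroDivisors_iff_right.2 fun b hb => by
      obtain ⟨n, a, ha⟩ := hrpow b
      have h1 : r (a * s) = 0 := by
        rw [map_mul, ha, ← Nat.sub_add_cancel (Nat.one_le_pow n p hp), pow_succ, mul_assoc, hb, mul_zero]
      have h2 : a = 0 := (mem_nonZeroDivisors_iff_right.1 hs) a ((map_eq_zero_iff r hrinj).1 h1)
      exact IsReduced.eq_zero b ⟨p ^ n, by rw [← ha, h2, map_zero]⟩
  let G : FractionRing (CAlg2.red R) →+* FractionRing (CAlg2.red R') := IsLocalization.map _ r hnzd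
  have hGinj : Function.Injective G := by
    refine (injective_iff_map_eq_zero G).2 fun x hx => ?_
    obtain ⟨a, t, rfl⟩ := IsLocalization.exists_mk'_eq (CAlg2.red R)⁰ x
    rw [IsLocalization.map_mk', IsLocalization.mk'_eq_zero_iff] at hx
    obtain ⟨m, hm⟩ := hx
    have h2 : r a = 0 := mem_nonZeroDivisors_iff_left.1 m.2 _ hm
    rw [(map_eq_zero_iff r hrinj).1 h2, IsLocalization.mk'_zero]
  have hrint : r.IsIntegral := fun b => by
    obtain ⟨n, a, ha⟩ := hrpow b
    let _ := r.toAlgebra
    exact IsIntegral.of_pow (pow_pos hp n) (ha ▸ isIntegral_algebraMap (x := a))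
  have hGalg : ∀ x, G (algebraMap _ _ x) = algebraMap _ _ (r x) := fun x => IsLocalization.map_eq hnzd x
  let g : CAlg2.normRed R →+* CAlg2.normRed R' :=
    RingHom.codRestrict (G.comp (integralClosure (CAlg2.red R) _).val.toRingHom) _ fun x => by
      obtain ⟨P, hP, hP'⟩ := x.2
      refine ⟨P.map r, hP.map r, ?_⟩
      rw [Polynomial.eval₂_map, show (algebraMap (CAlg2.red R') (FractionRing (CAlg2.red R'))).comp r =
        G.comp (algebraMap _ _) from (RingHom.ext hGalg).symm]
      exact (Polynomial.hom_eval₂ _ _ _ _).symm.trans ((congrArg G hP').trans (map_zero G))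
  have hg : ∀ x, g (toNormRed R x) = toNormRed R' (f x) := fun x =>
    Subtype.ext ((hGalg (Ideal.Quotient.mk _ x)).trans (congrArg _ (hrmk x)))
  have : IsPRadical g p := by
    constructor
    · intro y
      obtain ⟨b, t, hbt⟩ := IsLocalization.exists_mk'_eq (CAlg2.red R')⁰ y.1
      obtain ⟨n, c, hc⟩ := hrpow b
      obtain ⟨m, a, ha⟩ := hrpow t.1
      have hcN : r (c ^ p ^ m) = b ^ p ^ (n + m) := by rw [map_pow, hc, ← pow_mul, pow_add]
      have haN : r (a ^ p ^ n) = t.1 ^ p ^ (n + m) := by rw [map_pow, ha, ← pow_mul, pow_add, mul_comm]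
      have hanzd : a ^ p ^ n ∈ (CAlg2.red R)⁰ := by
        refine mem_nonZeroDivisors_iff_right.2 fun z hz => hrinj ?_
        rw [map_zero]
        refine mem_nonZeroDivisors_iff_right.1 (pow_mem t.2 (p ^ (n + m))) (r z) ?_
        rw [← haN, ← map_mul, hz, map_zero]
      let x : FractionRing (CAlg2.red R) := IsLocalization.mk' _ (c ^ p ^ m) ⟨_, hanzd⟩
      have hx : G x = y.1 ^ p ^ (n + m) := by
        rw [IsLocalization.map_mk', eq_comm, IsLocalization.eq_mk'_iff_mul_eq]
        show y.1 ^ _ * algebraMap _ _ (r (a ^ p ^ n)) = _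
        rw [haN, hcN, map_pow, map_pow, ← mul_pow, ← hbt, IsLocalization.mk'_spec]
      have hxint : IsIntegral (CAlg2.red R) x := by
        let _ : Algebra (CAlg2.red R) (CAlg2.red R') := r.toAlgebra
        have : IsScalarTower (CAlg2.red R) (CAlg2.red R') (FractionRing (CAlg2.red R')) := inferInstance
        have hGalg' : ∀ x, G (algebraMap _ _ x) = algebraMap (CAlg2.red R) (FractionRing (CAlg2.red R')) x :=
          fun x => (hGalg x).trans (IsScalarTower.algebraMap_apply (CAlg2.red R) (CAlg2.red R') (FractionRing (CAlg2.red R')) x).symm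
        have : Algebra.IsIntegral (CAlg2.red R) (CAlg2.red R') := ⟨hrint⟩
        have h1 : IsIntegral (CAlg2.red R) (G x) := by
          rw [hx]; exact (isIntegral_trans y.1 y.2).pow _
        exact (isIntegral_algHom_iff
          ({ G with commutes' := hGalg' } : FractionRing (CAlg2.red R) →ₐ[CAlg2.red R] FractionRing (CAlg2.red R'))
          hGinj).1 h1
      exact ⟨n + m, ⟨x, hxint⟩, Subtype.ext hx⟩
    · intro x hx
      have : x = 0 := Subtype.ext (hGinj ((congrArg Subtype.val hx).trans (map_zero G).symm))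
      rw [this]; exact zero_mem _
  have : Nontrivial (CAlg2.red R') := Ideal.Quotient.nontrivial_iff.2 fun h => by
    have := h ▸ Submodule.mem_top (x := (1 : R'))
    exact not_isNilpotent_one (mem_nilradical.1 this)
  have : ExpChar (CAlg2.normRed R') p :=
    expChar_of_injective_ringHom ((toNormRed R').comp (f.comp (algebraMap k R))).injective p
  have : ExpChar (CAlg2.normRed R) p :=
    have : Nontrivial (CAlg2.normRed R) := RingHom.domain_nontrivial g
    expChar_of_injective_ringHom ((toNormRed R).comp (algebraMap k R)).injective p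
  refine ENat.card_congr ((PerfectRing.liftEquiv Ω g p).subtypeEquiv fun σ => ?_)
  show _ ↔ (PerfectRing.lift g σ p).comp (toNormRed R') = φ'
  constructor
  · intro h
    refine IsPRadical.injective_comp_of_perfect Ω f p (RingHom.ext fun x => ?_)
    show PerfectRing.lift g σ p (toNormRed R' (f x)) = φ' (f x)
    rw [← hg, PerfectRing.lift_comp_apply]
    exact RingHom.congr_fun h x
  · intro h
    ext x
    show σ (toNormRed R x) = φ' (f x)
    rw [← PerfectRing.lift_comp_apply g σ p, hg]
    exact RingHom.congr_fun h (f x)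

end Radical

theorem isPRadical_includeRight (k K R : Type u) [Field k] [Field K] [Algebra k K] [IsPurelyInseparable k K]
    [CommRing R] [Algebra k R] (p : ℕ) [ExpChar k p] :
    IsPRadical (Algebra.TensorProduct.includeRight : R →ₐ[k] K ⊗[k] R).toRingHom p := by
  constructor
  · intro x
    obtain ⟨n, a, ha⟩ := IsPurelyInseparable.exists_pow_pow_mem_range_tensorProduct_of_expChar p
      (Algebra.TensorProduct.comm k K R x)
    refine ⟨n, a, (Algebra.TensorProduct.comm k K R).injective ?_⟩
    rw [map_pow, ← ha]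
    simp [Algebra.TensorProduct.algebraMap_apply]
  · intro x hx
    rw [RingHom.mem_ker] at hx
    have : x = 0 := Algebra.TensorProduct.includeRight_injective (algebraMap k K).injective
      (hx.trans (map_zero (Algebra.TensorProduct.includeRight : R →ₐ[k] K ⊗[k] R)).symm)
    rw [this]; exact zero_mem _

set_option maxHeartbeats 1600000 in
/-- Over a perfect field, geometric branches do not change under extension of the base field. -/
theorem numGeomBranches_eq_of_perfectField (k R L : Type u) [Field k] [PerfectField k] [CommRing R] [Algebra k R]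
    [Algebra.FiniteType k R] [Field L] [Algebra k L] (q : Ideal (L ⊗[k] R)) [q.IsPrime]
    [(q.comap (Algebra.TensorProduct.includeRight : R →ₐ[k] L ⊗[k] R).toRingHom).IsPrime]
    (A : Type u) [CommRing A] [Algebra R A]
    [IsLocalization.AtPrime A (q.comap (Algebra.TensorProduct.includeRight : R →ₐ[k] L ⊗[k] R).toRingHom)]
    [IsLocalRing A]
    (B : Type u) [CommRing B] [Algebra (L ⊗[k] R) B] [IsLocalization.AtPrime B q] [IsLocalRing B] :
    Brnch.numGeomBranches A = Brnch.numGeomBranches B := by
  have : IsNoetherianRing R := Algebra.FiniteType.isNoetherianRing k R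
  have : IsNoetherianRing (L ⊗[k] R) := Algebra.FiniteType.isNoetherianRing L _
  let D := CAlg2.normRed R
  let j : R →ₐ[k] D := { toNormRed R with commutes' := fun c => rfl }
  have : Algebra.FiniteType k D := finiteType_normRed R k
  let J := Algebra.TensorProduct.map (AlgHom.id L L) j
  let _ : Algebra (L ⊗[k] R) (L ⊗[k] D) := J.toRingHom.toAlgebra
  have hJ : ∀ l r, J (l ⊗ₜ r) = l ⊗ₜ toNormRed R r := fun l r => Algebra.TensorProduct.map_tmul _ _ l r
  have hint : Algebra.IsIntegral (L ⊗[k] R) (L ⊗[k] D) := by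
    refine ⟨fun x => ?_⟩
    induction x with
    | zero => exact isIntegral_zero
    | add x y hx hy => exact hx.add hy
    | tmul l d =>
      rw [show l ⊗ₜ[k] d = (l ⊗ₜ[k] (1 : D)) * ((1 : L) ⊗ₜ[k] d) by
        rw [Algebra.TensorProduct.tmul_mul_tmul, mul_one, one_mul]]
      refine IsIntegral.mul ?_ ?_
      · have : l ⊗ₜ[k] (1 : D) = algebraMap (L ⊗[k] R) (L ⊗[k] D) (l ⊗ₜ 1) :=
          ((hJ l 1).trans (by rw [map_one])).symm
        rw [this]; exact isIntegral_algebraMap
      · obtain ⟨P, hP, hP'⟩ := toNormRed_isIntegral R d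
        refine ⟨P.map (Algebra.TensorProduct.includeRight : R →ₐ[k] L ⊗[k] R).toRingHom, hP.map _, ?_⟩
        rw [Polynomial.eval₂_map]
        have : (algebraMap (L ⊗[k] R) (L ⊗[k] D)).comp (Algebra.TensorProduct.includeRight : R →ₐ[k] L ⊗[k] R).toRingHom =
            (Algebra.TensorProduct.includeRight : D →ₐ[k] L ⊗[k] D).toRingHom.comp (toNormRed R) :=
          RingHom.ext fun r => hJ 1 r
        rw [this, show (1 : L) ⊗ₜ[k] d = (Algebra.TensorProduct.includeRight : D →ₐ[k] L ⊗[k] D).toRingHom d from rfl,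
          ← Polynomial.hom_eval₂, hP', map_zero]
  have hD : EGA4.IsNormalRing (L ⊗[k] D) := EGA4H10.isNormalRing_of_ringEquiv
    (Algebra.TensorProduct.comm k D L).toRingEquiv (isNormalRing_baseChange k D L (isNormalRing_normRed R))
  have hker : RingHom.ker (algebraMap (L ⊗[k] R) (L ⊗[k] D)) = nilradical (L ⊗[k] R) := by
    refine le_antisymm ?_ fun x hx => ?_
    · let π : R →ₐ[k] CAlg2.red R := Ideal.Quotient.mkₐ k _
      let ι : CAlg2.red R →ₐ[k] D := IsScalarTower.toAlgHom k (CAlg2.red R) D
      have hι : Function.Injective ι := fun a b h =>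
        IsFractionRing.injective (CAlg2.red R) (FractionRing (CAlg2.red R)) (congrArg Subtype.val h)
      have hfac : ∀ x, J x = Algebra.TensorProduct.map (AlgHom.id k L) ι
          (Algebra.TensorProduct.map (AlgHom.id k L) π x) := fun x => by
        induction x with
        | zero => simp
        | add x y hx hy => simp [map_add, hx, hy]
        | tmul l r => rw [hJ]; rfl
      intro x hx
      have h1 : Algebra.TensorProduct.map (AlgHom.id k L) ι
          (Algebra.TensorProduct.map (AlgHom.id k L) π x) = 0 := (hfac x).symm.trans hx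
      have h2 : Algebra.TensorProduct.map (AlgHom.id k L) π x = 0 := by
        have hli : Function.Injective (LinearMap.lTensor L ι.toLinearMap) :=
          Module.Flat.lTensor_preserves_injective_linearMap _ hι
        exact (map_eq_zero_iff _ hli).1 h1
      have h3 : x ∈ RingHom.ker (Algebra.TensorProduct.map (AlgHom.id k L) π) := h2
      rw [Algebra.TensorProduct.lTensor_ker _ Ideal.Quotient.mk_surjective] at h3
      revert h3; revert x
      intro x _ _ _ h3
      refine (Ideal.map_le_iff_le_comap.2 fun r hr => ?_) h3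
      have hr' : IsNilpotent r := mem_nilradical.1 (Ideal.Quotient.eq_zero_iff_mem.1 hr)
      exact mem_nilradical.2 (hr'.map _)
    · have := isReduced_of_isNormalRing hD
      exact RingHom.mem_ker.2 ((mem_nilradical.1 hx).map _).eq_zero
  have hnz : ∀ s : R, toNormRed R s ∈ D⁰ → (1 : L) ⊗ₜ[k] toNormRed R s ∈ (L ⊗[k] D)⁰ := fun s hs => by
    have hli : Function.Injective (LinearMap.lTensor L (LinearMap.mulLeft k (toNormRed R s))) :=
      Module.Flat.lTensor_preserves_injective_linearMap _ fun a b h => by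
        refine sub_eq_zero.1 (mem_nonZeroDivisors_iff_left.1 hs _ ?_)
        rw [mul_sub, sub_eq_zero]; exact h
    have : ∀ z : L ⊗[k] D, LinearMap.lTensor L (LinearMap.mulLeft k (toNormRed R s)) z =
        ((1 : L) ⊗ₜ[k] toNormRed R s) * z := fun z => by
      induction z with
      | zero => simp
      | add x y hx hy => simp [map_add, hx, hy, mul_add]
      | tmul l d => simp [Algebra.TensorProduct.tmul_mul_tmul]
    refine mem_nonZeroDivisors_iff_left.2 fun z hz => (map_eq_zero_iff _ hli).1 ?_
    rw [this, hz]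
  have hden : ∀ d : L ⊗[k] D, ∃ s : L ⊗[k] R, algebraMap (L ⊗[k] R) (L ⊗[k] D) s ∈ (L ⊗[k] D)⁰ ∧
      algebraMap (L ⊗[k] R) (L ⊗[k] D) s * d ∈ (algebraMap (L ⊗[k] R) (L ⊗[k] D)).range := fun d => by
    induction d with
    | zero => exact ⟨1, by rw [map_one]; exact one_mem _, 0, by simp⟩
    | add x y hx hy =>
      obtain ⟨s, hs, a, ha⟩ := hx
      obtain ⟨t, ht, b, hb⟩ := hy
      refine ⟨s * t, by rw [map_mul]; exact mul_mem hs ht, t * a + s * b, ?_⟩
      rw [map_add, map_mul, map_mul, map_mul, ha, hb]; ring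
    | tmul l d =>
      obtain ⟨s, hs, a, ha⟩ := exists_den R d
      refine ⟨1 ⊗ₜ s, ?_, l ⊗ₜ a, ?_⟩
      · rw [RingHom.algebraMap_toAlgebra]
        show J (1 ⊗ₜ s) ∈ _
        rw [hJ]; exact hnz s hs
      · rw [RingHom.algebraMap_toAlgebra]
        show J (l ⊗ₜ a) = J (1 ⊗ₜ s) * _
        rw [hJ, hJ, ha, Algebra.TensorProduct.tmul_mul_tmul, one_mul]
  let Ω := AlgebraicClosure q.ResidueField
  let φ : L ⊗[k] R →+* Ω := (algebraMap q.ResidueField Ω).comp (algebraMap _ q.ResidueField)
  have hφ : RingHom.ker φ = q := by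
    rw [RingHom.ker_comp_of_injective _ (algebraMap q.ResidueField Ω).injective, Ideal.ker_algebraMap_residueField]
  let iR := (Algebra.TensorProduct.includeRight : R →ₐ[k] L ⊗[k] R).toRingHom
  rw [numGeomBranches_eq_pts_model hker hD hden (minimalPrimes.finite_of_isNoetherianRing _) q B Ω φ hφ,
    numGeomBranches_eq_pts_normRed R _ A Ω (φ.comp iR) (by rw [← RingHom.comap_ker, hφ])]
  let _ : Algebra k Ω := ((φ.comp iR).comp (algebraMap k R)).toAlgebra
  have hL : ∀ c : k, φ (algebraMap k L c ⊗ₜ 1) = algebraMap k Ω c := fun c => by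
    show _ = φ (1 ⊗ₜ algebraMap k R c)
    rw [Algebra.algebraMap_eq_smul_one, Algebra.algebraMap_eq_smul_one, TensorProduct.smul_tmul]
  let φL : L →ₐ[k] Ω :=
    { φ.comp (Algebra.TensorProduct.includeLeft : L →ₐ[k] L ⊗[k] R).toRingHom with commutes' := hL }
  let lft : {σ : D →+* Ω // σ.comp (toNormRed R) = φ.comp iR} → (L ⊗[k] D →ₐ[k] Ω) := fun σ =>
    Algebra.TensorProduct.lift φL { σ.1 with commutes' := fun c => RingHom.congr_fun σ.2 (algebraMap k R c) }
      fun _ _ => Commute.all _ _
  refine ENat.card_congr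
    { toFun := fun σ => ⟨(lft σ).toRingHom, RingHom.ext fun x => ?_⟩
      invFun := fun τ => ⟨τ.1.comp (Algebra.TensorProduct.includeRight : D →ₐ[k] L ⊗[k] D).toRingHom,
        RingHom.ext fun r => (congrArg τ.1 (hJ 1 r).symm).trans (RingHom.congr_fun τ.2 (1 ⊗ₜ r))⟩
      left_inv := fun σ => Subtype.ext (RingHom.ext fun d => ?_)
      right_inv := fun τ => Subtype.ext (RingHom.ext fun x => ?_) }
  · show lft σ (J x) = φ x
    induction x with
    | zero => simp only [map_zero]
    | add x y hx hy => simp only [map_add, hx, hy]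
    | tmul l r =>
      rw [hJ, Algebra.TensorProduct.lift_tmul]
      show φ (l ⊗ₜ 1) * σ.1 (toNormRed R r) = _
      rw [show σ.1 (toNormRed R r) = φ (1 ⊗ₜ r) from RingHom.congr_fun σ.2 r, ← map_mul,
        Algebra.TensorProduct.tmul_mul_tmul, mul_one, one_mul]
  · show lft σ (1 ⊗ₜ d) = σ.1 d
    rw [Algebra.TensorProduct.lift_tmul, map_one, one_mul]
    rfl
  · induction x with
    | zero => simp
    | add x y hx hy => simp only [map_add, hx, hy]
    | tmul l d =>
      show φ (l ⊗ₜ 1) * τ.1 (1 ⊗ₜ d) = τ.1 (l ⊗ₜ d)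
      rw [← RingHom.congr_fun τ.2 (l ⊗ₜ 1)]
      show τ.1 (J (l ⊗ₜ 1)) * _ = _
      rw [hJ, ← map_mul, map_one, Algebra.TensorProduct.tmul_mul_tmul, mul_one, one_mul]

end Groth.Agent.VarBranch
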