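import Groth.Agent.VarBranch.HomCount
import Groth.Prelude.Def_EGA4b
import Mathlib.RingTheory.Localization.LocalizationLocalization
import Mathlib.RingTheory.Localization.Integral
import Mathlib.RingTheory.Localization.Submodule

/-! Models of the normalized reduction: a normal ring, integral and birational over a ring. -/

universe u

open scoped nonZeroDivisors

namespace Groth.Agent.VarBranch

variable {D : Type u} [CommRing D]

/-- A normal ring is integrally closed in its total ring of fractions. -/
theorem mem_range_of_isIntegral_fractionRing (hD : EGA4.IsNormalRing D) (L : Type u) [CommRing L]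
    [Algebra D L] [IsFractionRing D L] {x : L} (hx : IsIntegral D x) : x ∈ (algebraMap D L).range := by
  let I : Ideal D :=
    { carrier := {s | algebraMap D L s * x ∈ (algebraMap D L).range}
      zero_mem' := ⟨0, by simp⟩
      add_mem' := fun {a b} ha hb => by
        obtain ⟨a', ha'⟩ := ha
        obtain ⟨b', hb'⟩ := hb
        exact ⟨a' + b', by rw [map_add, map_add, add_mul, ha', hb']⟩
      smul_mem' := fun c {a} ha => by
        obtain ⟨a', ha'⟩ := ha
        exact ⟨c * a', by rw [smul_eq_mul, map_mul, map_mul, ha', mul_assoc]⟩ }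
  by_contra hnot
  obtain ⟨P, hP, hIP⟩ := I.exists_le_maximal fun h => hnot (by
    obtain ⟨y, hy⟩ : (1 : D) ∈ I := h ▸ Submodule.mem_top
    exact ⟨y, by rw [hy, map_one, one_mul]⟩)
  obtain ⟨_, _⟩ := hD P
  let E := Localization.AtPrime P
  let K := FractionRing E
  let j : D →+* K := (algebraMap E K).comp (algebraMap D E)
  have hj : ∀ t : D⁰, IsUnit (j t) := fun t => by
    rw [isUnit_iff_ne_zero]
    intro h0
    obtain ⟨⟨v, hv⟩, hv'⟩ :=
      (IsLocalization.map_eq_zero_iff P.primeCompl E t.1).1 (IsFractionRing.injective E K (h0.trans (map_zero _).symm))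
    exact hv (by rw [t.2.2 v hv']; exact zero_mem P)
  let g : L →+* K := IsLocalization.lift hj
  have hg : IsIntegral E (g x) := by
    obtain ⟨p, hp, hp'⟩ := hx
    refine ⟨p.map (algebraMap D E), hp.map _, ?_⟩
    rw [Polynomial.eval₂_map]
    have : (algebraMap E K).comp (algebraMap D E) = g.comp (algebraMap D L) := (IsLocalization.lift_comp hj).symm
    rw [this, ← Polynomial.hom_eval₂, hp', map_zero]
  obtain ⟨z, hz⟩ := (IsIntegrallyClosed.isIntegral_iff (K := K)).1 hg
  obtain ⟨b, ⟨w, hw⟩, rfl⟩ := IsLocalization.exists_mk'_eq P.primeCompl z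
  obtain ⟨a, t, rfl⟩ := IsLocalization.exists_mk'_eq D⁰ x
  have h1 : algebraMap D E (a * w) = algebraMap D E (t.1 * b) := by
    apply IsFractionRing.injective E K
    have e1 : j a = g (IsLocalization.mk' L a t) * j t := by
      have h0 := congrArg g (IsLocalization.mk'_spec L a t)
      rw [map_mul, IsLocalization.lift_eq hj, IsLocalization.lift_eq hj] at h0
      exact h0.symm
    have e2 : algebraMap E K (IsLocalization.mk' E b ⟨w, hw⟩) * j w = j b := by
      rw [RingHom.comp_apply, ← map_mul, IsLocalization.mk'_spec]; rfl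
    change j (a * w) = j (t.1 * b)
    rw [map_mul, map_mul, e1, ← hz, ← e2]
    ring
  obtain ⟨⟨v, hv⟩, hv'⟩ := (IsLocalization.eq_iff_exists P.primeCompl E).1 h1
  have hmem : v * w ∈ I := by
    refine ⟨v * b, ?_⟩
    refine (IsLocalization.map_units L t).mul_right_cancel ?_
    rw [mul_assoc, IsLocalization.mk'_spec, ← map_mul, ← map_mul]
    exact congrArg _ (by linear_combination -hv')
  exact (hP.isPrime.mem_or_mem (hIP hmem)).elim hv hw

/-- A localization of a normal ring is normal. -/
theorem isNormalRing_localization (M : Submonoid D) (S : Type u) [CommRing S] [Algebra D S] [IsLocalization M S]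
    (hD : EGA4.IsNormalRing D) : EGA4.IsNormalRing S := by
  intro P _
  obtain ⟨hd, hi⟩ := hD (P.comap (algebraMap D S))
  have : IsLocalization.AtPrime (Localization.AtPrime P) (P.comap (algebraMap D S)) :=
    IsLocalization.isLocalization_isLocalization_atPrime_isLocalization M (Localization.AtPrime P) P
  let e := (IsLocalization.algEquiv (P.comap (algebraMap D S)).primeCompl
    (Localization.AtPrime (P.comap (algebraMap D S))) (Localization.AtPrime P)).toRingEquiv
  exact ⟨e.symm.toMulEquiv.isDomain _, IsIntegrallyClosed.of_equiv e⟩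

/-- A normal ring, integral and birational over `A`, is its normalized reduction. -/
theorem exists_normRed_equiv {A : Type u} [CommRing A] [Algebra A D] [Algebra.IsIntegral A D]
    (hker : RingHom.ker (algebraMap A D) = nilradical A) (hD : EGA4.IsNormalRing D)
    (hden : ∀ d : D, ∃ s : A, algebraMap A D s ∈ D⁰ ∧ algebraMap A D s * d ∈ (algebraMap A D).range) :
    ∃ e : CAlg2.normRed A ≃+* D, ∀ a, e (toNormRed A a) = algebraMap A D a := by
  let j : CAlg2.red A →+* D := Ideal.Quotient.lift _ (algebraMap A D) fun a ha => by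
    rwa [← RingHom.mem_ker, hker]
  let L := FractionRing D
  let _ : Algebra (CAlg2.red A) D := j.toAlgebra
  have : IsScalarTower (CAlg2.red A) D L := inferInstance
  have hjL : ∀ x, algebraMap (CAlg2.red A) L x = algebraMap D L (j x) :=
    fun x => IsScalarTower.algebraMap_apply (CAlg2.red A) D L x
  have : IsScalarTower A (CAlg2.red A) D := .of_algebraMap_eq fun _ => rfl
  have hjinj : Function.Injective j := RingHom.lift_injective_of_ker_le_ideal _ _ hker.le
  have hjmk : ∀ a, j (Ideal.Quotient.mk _ a) = algebraMap A D a := fun a => rfl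
  have hnzd : ∀ t ∈ (CAlg2.red A)⁰, j t ∈ D⁰ := fun t ht => mem_nonZeroDivisors_iff_right.2 fun d hd => by
    obtain ⟨s, hs, a, ha⟩ := hden d
    have h1 : j (Ideal.Quotient.mk _ a * t) = 0 := by
      rw [map_mul, hjmk, ha, mul_assoc, hd, mul_zero]
    have h2 : Ideal.Quotient.mk (nilradical A) a = 0 :=
      (mem_nonZeroDivisors_iff_right.1 ht) _ ((map_eq_zero_iff j hjinj).1 h1)
    have h3 : algebraMap A D s * d = 0 := by
      rw [← ha]
      show j (Ideal.Quotient.mk _ a) = 0
      rw [h2, map_zero]
    exact hs.1 d h3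
  have : IsFractionRing (CAlg2.red A) L := by
    refine ⟨?_, ?_, ?_⟩
    · intro t
      rw [hjL]
      exact IsLocalization.map_units L (⟨j t.1, hnzd _ t.2⟩ : D⁰)
    · intro z
      obtain ⟨a, t, rfl⟩ := IsLocalization.exists_mk'_eq D⁰ z
      obtain ⟨s₁, hs₁, a₁, ha₁⟩ := hden a
      obtain ⟨s₂, hs₂, t₂, ht₂⟩ := hden t.1
      have hb : Ideal.Quotient.mk (nilradical A) (s₁ * t₂) ∈ (CAlg2.red A)⁰ := by
        refine mem_nonZeroDivisors_iff_right.2 fun z hz => hjinj ?_
        have hmem : algebraMap A D (s₁ * t₂) ∈ D⁰ := by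
          rw [map_mul, ht₂]; exact mul_mem hs₁ (mul_mem hs₂ t.2)
        rw [map_zero]
        refine hmem.2 (j z) ?_
        rw [← hjmk, ← map_mul, hz, map_zero]
      refine ⟨⟨Ideal.Quotient.mk _ (a₁ * s₂), ⟨_, hb⟩⟩, ?_⟩
      rw [hjL, hjL]
      simp only [hjmk, map_mul, ha₁, ht₂]
      have := IsLocalization.mk'_spec L a t
      linear_combination (algebraMap D L (algebraMap A D s₁) * algebraMap D L (algebraMap A D s₂)) * this
    · intro x y h
      rw [hjL, hjL] at h
      exact ⟨1, by rw [hjinj (IsFractionRing.injective D L h)]⟩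
  have : Algebra.IsIntegral (CAlg2.red A) D := ⟨fun d => IsIntegral.tower_top (A := CAlg2.red A) (Algebra.IsIntegral.isIntegral (R := A) d)⟩
  let ψ := (IsLocalization.algEquiv (CAlg2.red A)⁰ (FractionRing (CAlg2.red A)) L).mapIntegralClosure
  let φ : D →ₐ[CAlg2.red A] integralClosure (CAlg2.red A) L :=
    (IsScalarTower.toAlgHom (CAlg2.red A) D L).codRestrict _ fun d =>
      (Algebra.IsIntegral.isIntegral (R := CAlg2.red A) d).map (IsScalarTower.toAlgHom (CAlg2.red A) D L)
  have hφ : Function.Bijective φ := ⟨fun x y h => IsFractionRing.injective D L (congrArg Subtype.val h),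
    fun x => by
      obtain ⟨d, hd⟩ := mem_range_of_isIntegral_fractionRing hD L (x.2.tower_top (A := D))
      exact ⟨d, Subtype.ext hd⟩⟩
  let e := ψ.trans (AlgEquiv.ofBijective φ hφ).symm
  exact ⟨e.toRingEquiv, fun a => e.commutes (Ideal.Quotient.mk _ a)⟩

/-- Geometric branches at a prime of a ring with a model of its normalized reduction. -/
theorem numGeomBranches_eq_pts_model {R : Type u} [CommRing R] [Algebra R D] [Algebra.IsIntegral R D]
    (hker : RingHom.ker (algebraMap R D) = nilradical R) (hD : EGA4.IsNormalRing D)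
    (hden : ∀ d : D, ∃ s : R, algebraMap R D s ∈ D⁰ ∧ algebraMap R D s * d ∈ (algebraMap R D).range)
    (hfin : (minimalPrimes R).Finite) (p : Ideal R) [p.IsPrime]
    (A : Type u) [CommRing A] [Algebra R A] [IsLocalization.AtPrime A p] [IsLocalRing A]
    (Ω : Type u) [Field Ω] [IsAlgClosed Ω] (φ : R →+* Ω) (hφ : RingHom.ker φ = p) :
    Brnch.numGeomBranches A = ENat.card (Pts D φ) := by
  have hu : ∀ y : p.primeCompl, IsUnit (φ y) := fun y => isUnit_iff_ne_zero.2 fun h => y.2 (hφ ▸ h)
  let φA : A →+* Ω := IsLocalization.lift hu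
  have hφA : φA.comp (algebraMap R A) = φ := IsLocalization.lift_comp hu
  have hkA : RingHom.ker φA = IsLocalRing.maximalIdeal A := by
    have hcomap : (RingHom.ker φA).under R = p := by rw [Ideal.under_def, RingHom.comap_ker, hφA, hφ]
    rw [← IsLocalization.map_under p.primeCompl A (RingHom.ker φA), hcomap,
      IsLocalization.AtPrime.map_eq_maximalIdeal]
  have hfinA : (minimalPrimes A).Finite := by
    have h1 := IsLocalization.minimalPrimes_map p.primeCompl A (⊥ : Ideal R)
    rw [Ideal.map_bot] at h1
    have hinj : Function.Injective (Ideal.under R : Ideal A → Ideal R) := fun I J h => by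
      rw [← IsLocalization.map_under p.primeCompl A I, h, IsLocalization.map_under p.primeCompl A J]
    show (⊥ : Ideal A).minimalPrimes.Finite
    rw [h1]
    exact hfin.preimage hinj.injOn
  let M := Algebra.algebraMapSubmonoid D p.primeCompl
  let E := Localization M
  let _ : Algebra A E := localizationAlgebra p.primeCompl D
  have : IsScalarTower R A E := .of_algebraMap_eq' (IsLocalization.map_comp (S := A) (Q := E) _).symm
  have : Algebra.IsIntegral A E := ⟨isIntegral_localization (R := R) (S := D) (M := p.primeCompl)⟩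
  have hAE : ∀ r : R, algebraMap A E (algebraMap R A r) = algebraMap D E (algebraMap R D r) := fun r => by
    rw [← IsScalarTower.algebraMap_apply, IsScalarTower.algebraMap_apply R D E]
  have hkerE : RingHom.ker (algebraMap A E) = nilradical A := by
    ext x
    obtain ⟨r, s, rfl⟩ := IsLocalization.exists_mk'_eq p.primeCompl x
    have hs : IsUnit (algebraMap R A s) := IsLocalization.map_units A s
    have hspec := IsLocalization.mk'_spec A r s
    constructor
    · intro h0
      have h1 : algebraMap D E (algebraMap R D r) = 0 := by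
        rw [← hAE, ← hspec, map_mul, RingHom.mem_ker.1 h0, zero_mul]
      obtain ⟨⟨_, v, hv, rfl⟩, hv'⟩ := (IsLocalization.map_eq_zero_iff M E _).1 h1
      have h2 : v * r ∈ nilradical R := by rw [← hker, RingHom.mem_ker, map_mul]; exact hv'
      have h3 : IsNilpotent (algebraMap R A (v * r)) := IsNilpotent.map h2 _
      rw [map_mul, ← hspec, mul_comm (IsLocalization.mk' A r s), ← mul_assoc] at h3
      exact (Commute.all _ _).isNilpotent_mul_left_iff (IsUnit.mem_nonZeroDivisors
        ((IsLocalization.map_units A ⟨v, hv⟩).mul hs)).1 |>.1 h3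
    · intro hnil
      have h3 : IsNilpotent (algebraMap R A r) := by
        rw [← hspec]; exact (Commute.all _ _).isNilpotent_mul_right hnil
      obtain ⟨n, hn⟩ := h3
      rw [← map_pow] at hn
      obtain ⟨v, hv⟩ := (IsLocalization.map_eq_zero_iff p.primeCompl A _).1 hn
      have h4 : algebraMap R D (v.1 * r) = 0 := by
        have : v.1 * r ∈ nilradical R := mem_nilradical.2 ⟨n + 1, by linear_combination (v.1 ^ n * r) * hv⟩
        rwa [← hker] at this
      have h5 : algebraMap A E (algebraMap R A v.1) * algebraMap A E (IsLocalization.mk' A r s) *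
          algebraMap A E (algebraMap R A s) = 0 := by
        rw [mul_assoc, ← map_mul, hspec, ← map_mul, ← map_mul, hAE, h4, map_zero]
      rwa [((hs.map _).mul_left_eq_zero), ((IsLocalization.map_units A v).map _).mul_right_eq_zero] at h5
  have hdenE : ∀ d : E, ∃ s : A, algebraMap A E s ∈ E⁰ ∧ algebraMap A E s * d ∈ (algebraMap A E).range := by
    intro d
    obtain ⟨b, ⟨_, w, hw, rfl⟩, rfl⟩ := IsLocalization.exists_mk'_eq M d
    obtain ⟨s, hs, a, ha⟩ := hden b
    refine ⟨algebraMap R A (s * w), ?_, algebraMap R A a, ?_⟩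
    · rw [hAE, map_mul, map_mul]
      refine mul_mem ?_ (IsLocalization.map_units E (⟨_, w, hw, rfl⟩ : M)).mem_nonZeroDivisors
      refine mem_nonZeroDivisors_iff_right.2 fun z hz => ?_
      obtain ⟨c, v, rfl⟩ := IsLocalization.exists_mk'_eq M z
      rw [mul_comm, IsLocalization.mul_mk'_eq_mk'_of_mul, IsLocalization.mk'_eq_zero_iff] at hz
      obtain ⟨u, hu⟩ := hz
      rw [IsLocalization.mk'_eq_zero_iff]
      exact ⟨u, hs.1 _ (by linear_combination hu)⟩
    · have hwM : algebraMap R D w ∈ M := Submonoid.mem_map.2 ⟨w, hw, rfl⟩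
      have := IsLocalization.mk'_spec' E b (⟨_, hwM⟩ : M)
      rw [hAE, hAE, ha, map_mul (algebraMap R D), map_mul (algebraMap D E), map_mul (algebraMap D E), mul_assoc]
      exact congrArg _ this.symm
  obtain ⟨e, he⟩ := exists_normRed_equiv hkerE (isNormalRing_localization M E hD) hdenE
  rw [numGeomBranches_eq_pts A hfinA Ω φA hkA]
  have hlift : ∀ τ : Pts D φ, ∀ y : M, IsUnit (τ.1 y) := by
    rintro ⟨τ, hτ⟩ ⟨_, w, hw, rfl⟩
    have : τ (algebraMap R D w) = φ w := RingHom.congr_fun hτ w
    rw [this]; exact hu ⟨w, hw⟩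
  refine ENat.card_congr
    { toFun := fun σ => ⟨(σ.1.comp e.symm.toRingHom).comp (algebraMap D E), RingHom.ext fun r => ?_⟩
      invFun := fun τ => ⟨(IsLocalization.lift (S := E) (hlift τ)).comp e.toRingHom, ?_⟩
      left_inv := fun σ => Subtype.ext (RingHom.ext fun x => ?_)
      right_inv := fun τ => Subtype.ext (RingHom.ext fun x => ?_) }
  · show σ.1 (e.symm (algebraMap D E (algebraMap R D r))) = φ r
    rw [← hAE, ← he, e.symm_apply_apply, ← RingHom.congr_fun hφA r]
    exact RingHom.congr_fun σ.2 _
  · refine IsLocalization.ringHom_ext p.primeCompl (RingHom.ext fun r => ?_)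
    show IsLocalization.lift (hlift τ) (e (toNormRed A (algebraMap R A r))) = φA (algebraMap R A r)
    rw [he, hAE, IsLocalization.lift_eq]
    exact (RingHom.congr_fun τ.2 r).trans (RingHom.congr_fun hφA r).symm
  · have : IsLocalization.lift (hlift ⟨(σ.1.comp e.symm.toRingHom).comp (algebraMap D E), RingHom.ext fun r => by
        show σ.1 (e.symm (algebraMap D E (algebraMap R D r))) = φ r
        rw [← hAE, ← he, e.symm_apply_apply, ← RingHom.congr_fun hφA r]
        exact RingHom.congr_fun σ.2 _⟩) = σ.1.comp e.symm.toRingHom :=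
      IsLocalization.ringHom_ext M (IsLocalization.lift_comp _)
    exact (RingHom.congr_fun this (e x)).trans (congrArg σ.1 (e.symm_apply_apply x))
  · show IsLocalization.lift (hlift τ) (e (e.symm (algebraMap D E x))) = τ.1 x
    rw [e.apply_symm_apply, IsLocalization.lift_eq]

end Groth.Agent.VarBranch
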