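import Groth.Agent.EGA4H10.NormalFlat
import Groth.Agent.FlatMor67.SmoothIsRegular
import Groth.Agent.VarBranch.Model

/-! Over a perfect field, normality is stable under any extension of the base field. -/

universe u

open scoped TensorProduct nonZeroDivisors

namespace Groth.Agent.VarBranch

theorem isNormalRing_smooth_model (k S K L : Type u) [Field k] [CommRing S] [Algebra k S] [Algebra.Smooth k S]
    [Field K] [Algebra k K] [Algebra S K] [IsScalarTower k S K] [IsFractionRing S K] [Field L] [Algebra k L] :
    EGA4.IsNormalRing (K ⊗[k] L) := by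
  have hS : EGA4.IsNormalRing (S ⊗[k] L) := by
    have : Algebra.Smooth L (L ⊗[k] S) := inferInstance
    have := FlatMor67.isRegularRing_of_smooth L (L ⊗[k] S)
    exact EGA4H10.isNormalRing_of_ringEquiv (Algebra.TensorProduct.comm k L S).toRingEquiv
      (FlatMor67.isNormalRing_of_regular _)
  let _ : Algebra (S ⊗[k] L) (K ⊗[k] L) :=
    (Algebra.TensorProduct.map (IsScalarTower.toAlgHom S S K) (AlgHom.id k L)).toAlgebra
  have : IsScalarTower S (S ⊗[k] L) (K ⊗[k] L) := .of_algebraMap_eq fun x => by
    rw [RingHom.algebraMap_toAlgebra]; simp [Algebra.TensorProduct.algebraMap_apply]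
  have := IsLocalization.tensorProduct_tensorProduct k L S⁰ K (by
    ext x; simp [RingHom.algebraMap_toAlgebra])
  exact isNormalRing_localization (Algebra.algebraMapSubmonoid (S ⊗[k] L) S⁰) _ hS

theorem isNormalRing_field_tensor (k K L : Type u) [Field k] [PerfectField k] [Field K] [Algebra k K]
    [Algebra.EssFiniteType k K] [Field L] [Algebra k L] : EGA4.IsNormalRing (K ⊗[k] L) := by
  let S₀ := Algebra.EssFiniteType.subalgebra k K
  have : Algebra.FiniteType k S₀ := inferInstance
  have : IsFractionRing S₀ K := by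
    refine IsFractionRing.of_field _ _ fun z => ?_
    obtain ⟨a, s, rfl⟩ := IsLocalization.exists_mk'_eq (Algebra.EssFiniteType.submonoid k K) z
    refine ⟨a, s.1, ?_⟩
    rw [eq_div_iff]
    · exact IsLocalization.mk'_spec K a s
    · exact (IsLocalization.map_units K s).ne_zero
  have : IsNoetherianRing S₀ := Algebra.FiniteType.isNoetherianRing k S₀
  have : Algebra.FinitePresentation k S₀ := Algebra.FinitePresentation.of_finiteType.mp inferInstance
  have hbot : (⊥ : Ideal S₀).primeCompl = S₀⁰ := by
    ext x; simp [Ideal.primeCompl, mem_nonZeroDivisors_iff_ne_zero]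
  have : IsLocalization.AtPrime K (⊥ : Ideal S₀) := by
    show IsLocalization (⊥ : Ideal S₀).primeCompl K
    rw [hbot]; infer_instance
  have : Algebra.IsSmoothAt k (⊥ : Ideal S₀) :=
    Algebra.FormallySmooth.of_equiv ((IsLocalization.algEquiv (⊥ : Ideal S₀).primeCompl K
      (Localization.AtPrime (⊥ : Ideal S₀))).restrictScalars k)
  obtain ⟨g, hg, hsm⟩ := Algebra.IsSmoothAt.exists_notMem_smooth (R := k) (⊥ : Ideal S₀)
  let S := Localization.Away g
  have hg0 : g ≠ 0 := fun h => hg (by rw [h]; exact zero_mem _)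
  let _ : Algebra S K := (IsLocalization.Away.lift (S := S) g (g := algebraMap S₀ K)
    (isUnit_iff_ne_zero.2 ((map_ne_zero_iff _ (IsFractionRing.injective S₀ K)).2 hg0))).toAlgebra
  have : IsScalarTower S₀ S K := .of_algebraMap_eq fun x => (IsLocalization.Away.lift_eq g _ x).symm
  have : IsScalarTower k S K := .of_algebraMap_eq fun x => by
    rw [IsScalarTower.algebraMap_apply k S₀ K, IsScalarTower.algebraMap_apply k S₀ S,
      ← IsScalarTower.algebraMap_apply S₀ S K]
  have : IsFractionRing S K :=
    IsFractionRing.isFractionRing_of_isDomain_of_isLocalization (Submonoid.powers g) S K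
  exact isNormalRing_smooth_model k S K L

theorem isNormalRing_baseChange (k D L : Type u) [Field k] [PerfectField k] [CommRing D] [Algebra k D]
    [Algebra.FiniteType k D] [Field L] [Algebra k L] (hD : EGA4.IsNormalRing D) :
    EGA4.IsNormalRing (D ⊗[k] L) := by
  have : IsNoetherianRing D := Algebra.FiniteType.isNoetherianRing k D
  have : IsNoetherianRing (D ⊗[k] L) := by
    have := Algebra.FiniteType.isNoetherianRing L (L ⊗[k] D)
    exact isNoetherianRing_of_ringEquiv (L ⊗[k] D) (Algebra.TensorProduct.comm k L D).toRingEquiv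
  intro q _
  obtain ⟨hd, hi⟩ := hD (q.comap (algebraMap D (D ⊗[k] L)))
  refine EGA4H10.normal_localization_of_flat D (D ⊗[k] L) (fun r _ => ?_) q hd hi
  let p := r.comap (algebraMap D (D ⊗[k] L))
  obtain ⟨Q, ⟨e⟩⟩ := EGA4H10.exists_fiber_equiv (A := D) r
  have : Algebra.EssFiniteType k p.ResidueField := Algebra.EssFiniteType.comp k D p.ResidueField
  obtain ⟨h1, h2⟩ := EGA4H10.isNormalRing_of_ringEquiv
    (Algebra.TensorProduct.cancelBaseChange k D D p.ResidueField L).symm.toRingEquiv
    (isNormalRing_field_tensor k p.ResidueField L) Q.asIdeal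
  exact ⟨e.symm.toMulEquiv.isDomain _,
    @IsIntegrallyClosed.of_equiv (Localization.AtPrime Q.asIdeal) _ _ _ e h2⟩

end Groth.Agent.VarBranch
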