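import Groth.Agent.VarBranch.Steps
import Mathlib.FieldTheory.PurelyInseparable.PerfectClosure
import Mathlib.RingTheory.Flat.FaithfullyFlat.Algebra

/-! Geometric branches do not change under extension of the base field. -/

universe u

open scoped TensorProduct nonZeroDivisors

namespace Groth.Agent.VarBranch

set_option maxHeartbeats 800000 in
theorem numGeomBranches_eq_of_purelyInseparable (k k₂ R L : Type u) [Field k] [Field k₂] [PerfectField k₂] [Algebra k k₂] [IsPurelyInseparable k k₂] [CommRing R] [Algebra k R]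
    [Algebra.FiniteType k R] [Field L] [Algebra k L] [Algebra k₂ L] [IsScalarTower k k₂ L] (q : Ideal (L ⊗[k] R)) [q.IsPrime]
    (p : Ideal R) [p.IsPrime] (hp : p = q.comap (Algebra.TensorProduct.includeRight : R →ₐ[k] L ⊗[k] R).toRingHom)
    (A : Type u) [CommRing A] [Algebra R A] [IsLocalization.AtPrime A p] [IsLocalRing A]
    (B : Type u) [CommRing B] [Algebra (L ⊗[k] R) B] [IsLocalization.AtPrime B q] [IsLocalRing B] :
    Brnch.numGeomBranches A = Brnch.numGeomBranches B := by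
  have : IsNoetherianRing R := Algebra.FiniteType.isNoetherianRing k R
  have : IsNoetherianRing (k₂ ⊗[k] R) := Algebra.FiniteType.isNoetherianRing k₂ (k₂ ⊗[k] R)
  let e : L ⊗[k₂] (k₂ ⊗[k] R) ≃ₐ[L] L ⊗[k] R := Algebra.TensorProduct.cancelBaseChange k k₂ L L R
  let q' : Ideal (L ⊗[k₂] (k₂ ⊗[k] R)) := q.comap e.toRingEquiv.toRingHom
  have : q'.IsPrime := Ideal.IsPrime.comap _
  let q₂ : Ideal (k₂ ⊗[k] R) := q'.comap (Algebra.TensorProduct.includeRight : (k₂ ⊗[k] R) →ₐ[k₂] L ⊗[k₂] (k₂ ⊗[k] R)).toRingHom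
  have : q₂.IsPrime := Ideal.IsPrime.comap _
  let f : R →+* (k₂ ⊗[k] R) := (Algebra.TensorProduct.includeRight : R →ₐ[k] k₂ ⊗[k] R).toRingHom
  have hq₂ : q₂.comap f = p := by
    ext r
    rw [hp]
    show e (1 ⊗ₜ (1 ⊗ₜ r)) ∈ q ↔ (1 : L) ⊗ₜ[k] r ∈ q
    rw [Algebra.TensorProduct.cancelBaseChange_tmul, one_smul]
  have : (q₂.comap f).IsPrime := Ideal.IsPrime.comap _
  have : IsLocalization.AtPrime A (q₂.comap f) := by
    show IsLocalization (q₂.comap f).primeCompl A
    have : (q₂.comap f).primeCompl = p.primeCompl := by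
      ext r; simp only [Ideal.mem_primeCompl_iff, hq₂]
    rw [this]; infer_instance
  have : IsPRadical f (ringExpChar k) := isPRadical_includeRight k k₂ R (ringExpChar k)
  rw [numGeomBranches_eq_of_isPRadical (k := k) (ringExpChar k) f q₂ A (Localization.AtPrime q₂)]
  let _ : Algebra (L ⊗[k₂] (k₂ ⊗[k] R)) B := ((algebraMap (L ⊗[k] R) B).comp e.toRingEquiv.toRingHom).toAlgebra
  have : IsLocalization.AtPrime B q' := by
    show IsLocalization q'.primeCompl B
    have h := IsLocalization.isLocalization_of_base_ringEquiv q.primeCompl B e.toRingEquiv.symm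
    have hM : Submonoid.map e.toRingEquiv.symm q.primeCompl = q'.primeCompl := by
      ext x
      refine ⟨?_, fun hx => ⟨e x, hx, e.symm_apply_apply x⟩⟩
      rintro ⟨y, hy, rfl⟩ h
      exact hy (by have h' : e (e.symm y) ∈ q := h; rwa [e.apply_symm_apply] at h')
    rw [hM] at h
    exact h
  exact numGeomBranches_eq_of_perfectField k₂ (k₂ ⊗[k] R) L q' (Localization.AtPrime q₂) B

theorem numGeomBranches_eq_of_isAlgClosed (k R L : Type u) [Field k] [CommRing R] [Algebra k R]
    [Algebra.FiniteType k R] [Field L] [IsAlgClosed L] [Algebra k L] (q : Ideal (L ⊗[k] R)) [q.IsPrime]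
    (p : Ideal R) [p.IsPrime] (hp : p = q.comap (Algebra.TensorProduct.includeRight : R →ₐ[k] L ⊗[k] R).toRingHom)
    (A : Type u) [CommRing A] [Algebra R A] [IsLocalization.AtPrime A p] [IsLocalRing A]
    (B : Type u) [CommRing B] [Algebra (L ⊗[k] R) B] [IsLocalization.AtPrime B q] [IsLocalRing B] :
    Brnch.numGeomBranches A = Brnch.numGeomBranches B := by
  exact numGeomBranches_eq_of_purelyInseparable k (perfectClosure k L) R L q p hp A B

set_option maxHeartbeats 800000 in
theorem numGeomBranches_eq_of_field (k R K : Type u) [Field k] [CommRing R] [Algebra k R]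
    [Algebra.FiniteType k R] [Field K] [Algebra k K] (q : Ideal (K ⊗[k] R)) [q.IsPrime]
    (p : Ideal R) [p.IsPrime] (hp : p = q.comap (Algebra.TensorProduct.includeRight : R →ₐ[k] K ⊗[k] R).toRingHom)
    (A : Type u) [CommRing A] [Algebra R A] [IsLocalization.AtPrime A p] [IsLocalRing A]
    (B : Type u) [CommRing B] [Algebra (K ⊗[k] R) B] [IsLocalization.AtPrime B q] [IsLocalRing B] :
    Brnch.numGeomBranches A = Brnch.numGeomBranches B := by
  let L := AlgebraicClosure K
  let _ : Algebra (K ⊗[k] R) (L ⊗[K] (K ⊗[k] R)) := Algebra.TensorProduct.rightAlgebra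
  have : Module.FaithfullyFlat (K ⊗[k] R) (L ⊗[K] (K ⊗[k] R)) :=
    Module.FaithfullyFlat.of_linearEquiv (K ⊗[k] R) ((K ⊗[k] R) ⊗[K] L)
      (AlgEquiv.ofRingEquiv (f := (Algebra.TensorProduct.comm K L (K ⊗[k] R)).toRingEquiv) fun x => rfl).toLinearEquiv
  obtain ⟨Q, hQ⟩ := PrimeSpectrum.comap_surjective_of_faithfullyFlat (A := K ⊗[k] R)
    (B := L ⊗[K] (K ⊗[k] R)) ⟨q, inferInstance⟩
  have hQ' : q = Q.asIdeal.comap (Algebra.TensorProduct.includeRight : K ⊗[k] R →ₐ[K] L ⊗[K] (K ⊗[k] R)).toRingHom :=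
    (congrArg PrimeSpectrum.asIdeal hQ).symm
  rw [numGeomBranches_eq_of_isAlgClosed K (K ⊗[k] R) L Q.asIdeal q hQ' B (Localization.AtPrime Q.asIdeal)]
  let e : L ⊗[K] (K ⊗[k] R) ≃ₐ[L] L ⊗[k] R := Algebra.TensorProduct.cancelBaseChange k K L L R
  let Q' : Ideal (L ⊗[k] R) := Q.asIdeal.comap e.toRingEquiv.symm.toRingHom
  have : Q'.IsPrime := Ideal.IsPrime.comap _
  let _ : Algebra (L ⊗[k] R) (Localization.AtPrime Q.asIdeal) :=
    ((algebraMap _ (Localization.AtPrime Q.asIdeal)).comp e.toRingEquiv.symm.toRingHom).toAlgebra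
  have : IsLocalization.AtPrime (Localization.AtPrime Q.asIdeal) Q' := by
    show IsLocalization Q'.primeCompl (Localization.AtPrime Q.asIdeal)
    have h := IsLocalization.isLocalization_of_base_ringEquiv Q.asIdeal.primeCompl
      (Localization.AtPrime Q.asIdeal) e.toRingEquiv
    have hM : Submonoid.map e.toRingEquiv Q.asIdeal.primeCompl = Q'.primeCompl := by
      ext x
      refine ⟨?_, fun hx => ⟨e.symm x, hx, e.apply_symm_apply x⟩⟩
      rintro ⟨y, hy, rfl⟩ h
      exact hy (by have h' : e.symm (e y) ∈ Q.asIdeal := h; rwa [e.symm_apply_apply] at h')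
    simpa only [hM] using h
  refine numGeomBranches_eq_of_isAlgClosed k R L Q' p ?_ A (Localization.AtPrime Q.asIdeal)
  ext r
  rw [hp]
  have : e.symm ((1 : L) ⊗ₜ[k] r) = (1 : L) ⊗ₜ[K] ((1 : K) ⊗ₜ[k] r) := by
    rw [AlgEquiv.symm_apply_eq, Algebra.TensorProduct.cancelBaseChange_tmul, one_smul]
  show _ ↔ e.symm ((1 : L) ⊗ₜ[k] r) ∈ Q.asIdeal
  rw [this, hQ']
  rfl

end Groth.Agent.VarBranch
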