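import Groth.Prelude.Def_Brnch
import Mathlib.FieldTheory.IsAlgClosed.Basic
import Mathlib.RingTheory.IntegralClosure.IsIntegralClosure.Basic
import Mathlib.RingTheory.Ideal.GoingUp

/-! Geometric branches of a local ring as the points of its normalization over one geometric point. -/

universe u

namespace Groth.Agent.VarBranch

/-- The points of an `R`-algebra over a given point with values in `Ω`. -/
abbrev Pts {R : Type u} [CommRing R] (D : Type u) [CommRing D] [Algebra R D] {Ω : Type u} [CommRing Ω]
    (φ : R →+* Ω) : Type u := {σ : D →+* Ω // σ.comp (algebraMap R D) = φ}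

variable (A : Type u) [CommRing A]

/-- The structure map of the normalized reduction. -/
noncomputable def toNormRed : A →+* CAlg2.normRed A :=
  (algebraMap (CAlg2.red A) (CAlg2.normRed A)).comp (Ideal.Quotient.mk (nilradical A))

theorem toNormRed_isIntegral : (toNormRed A).IsIntegral :=
  RingHom.IsIntegral.trans _ _ (RingHom.isIntegral_of_surjective _ Ideal.Quotient.mk_surjective)
    (algebraMap_isIntegral_iff.mpr inferInstance)

/-- An algebraic element of an extension lies in the image of any algebraic closure. -/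
theorem mem_range_of_isIntegral {κ K Ω : Type u} [Field κ] [Field K] [Algebra κ K] [IsAlgClosed K]
    [Field Ω] [Algebra κ Ω] (ι : K →ₐ[κ] Ω) {x : Ω} (hx : IsIntegral κ x) : x ∈ ι.range := by
  let : Algebra K Ω := ι.toRingHom.toAlgebra
  have : IsScalarTower κ K Ω := .of_algebraMap_eq fun a => (ι.commutes a).symm
  have hxK : IsIntegral K x := hx.tower_top
  obtain ⟨y, hy⟩ := minpoly.mem_range_of_degree_eq_one K x
    (IsAlgClosed.degree_eq_one_of_irreducible K (minpoly.irreducible hxK))
  exact ⟨y, hy⟩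

theorem numGeomBranches_eq_pts [IsLocalRing A] (hfin : (minimalPrimes A).Finite) (Ω : Type u) [Field Ω]
    [IsAlgClosed Ω] (φ : A →+* Ω) (hφ : RingHom.ker φ = IsLocalRing.maximalIdeal A) :
    Brnch.numGeomBranches A =
      ENat.card {σ : CAlg2.normRed A →+* Ω // σ.comp (toNormRed A) = φ} := by
  rw [Brnch.numGeomBranches, if_pos hfin]
  let κ := IsLocalRing.ResidueField A
  let φ' : κ →+* Ω := Ideal.Quotient.lift _ φ fun a ha => by rwa [← RingHom.mem_ker, hφ]
  let : Algebra κ Ω := φ'.toAlgebra
  let _ : Algebra κ (AlgebraicClosure κ) := AlgebraicClosure.instAlgebra κ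
  let ι : AlgebraicClosure κ →ₐ[κ] Ω := IsAlgClosed.lift
  have hι : ι.toRingHom.comp (Brnch.toClosure A) = φ := RingHom.ext fun a => ι.commutes _
  let f : (Σ m' : MaximalSpectrum (CAlg2.normRed A), Brnch.Emb A m') →
      {σ : CAlg2.normRed A →+* Ω // σ.comp (toNormRed A) = φ} := fun z =>
    ⟨ι.toRingHom.comp (z.2.1.comp (Ideal.Quotient.mk z.1.asIdeal)), by
      exact (congrArg ι.toRingHom.comp z.2.2).trans hι⟩
  have hker : ∀ z, RingHom.ker (f z).1 = z.1.asIdeal := fun z => by
    have : (z.1.asIdeal).IsMaximal := z.1.isMaximal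
    let : Field (CAlg2.normRed A ⧸ z.1.asIdeal) := Ideal.Quotient.field _
    ext x
    rw [RingHom.mem_ker]
    exact ((map_eq_zero_iff _ (ι.toRingHom.comp z.2.1).injective).trans Ideal.Quotient.eq_zero_iff_mem)
  refine ENat.card_congr (Equiv.ofBijective f ⟨?_, ?_⟩)
  · rintro ⟨m, s⟩ ⟨m', s'⟩ h
    obtain rfl : m = m' := MaximalSpectrum.ext (by
      have h1 := hker ⟨m, s⟩
      rw [h, hker ⟨m', s'⟩] at h1
      exact h1.symm)
    refine Sigma.ext rfl (heq_of_eq (Subtype.ext (Ideal.Quotient.ringHom_ext ?_)))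
    exact RingHom.ext fun x => ι.toRingHom.injective (RingHom.congr_fun (congrArg Subtype.val h) x)
  · rintro ⟨τ, hτ⟩
    have hP : (RingHom.ker τ).IsPrime := RingHom.ker_isPrime τ
    let : Algebra A (CAlg2.normRed A) := (toNormRed A).toAlgebra
    have : Algebra.IsIntegral A (CAlg2.normRed A) := ⟨toNormRed_isIntegral A⟩
    have hcomap : (RingHom.ker τ).comap (algebraMap A (CAlg2.normRed A)) = IsLocalRing.maximalIdeal A := by
      rw [RingHom.comap_ker, RingHom.algebraMap_toAlgebra, hτ, hφ]
    have hmax : (RingHom.ker τ).IsMaximal :=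
      Ideal.isMaximal_of_isIntegral_of_isMaximal_comap (R := A) _ (by rw [hcomap]; infer_instance)
    let e : ι.range ≃ₐ[κ] AlgebraicClosure κ := (AlgEquiv.ofInjective ι ι.toRingHom.injective).symm
    have hmem : ∀ x, τ x ∈ ι.range := fun x => by
      refine mem_range_of_isIntegral ι ?_
      obtain ⟨P, hP1, hP2⟩ := toNormRed_isIntegral A x
      refine ⟨P.map (IsLocalRing.residue A), hP1.map _, ?_⟩
      rw [Polynomial.eval₂_map]
      have : (algebraMap κ Ω).comp (IsLocalRing.residue A) = τ.comp (toNormRed A) := by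
        rw [hτ]; rfl
      rw [this, ← Polynomial.hom_eval₂, hP2, map_zero]
    let τ' : CAlg2.normRed A →+* AlgebraicClosure κ :=
      e.toAlgHom.toRingHom.comp (τ.codRestrict ι.range hmem)
    have hτ' : ι.toRingHom.comp τ' = τ := RingHom.ext fun x =>
      congrArg Subtype.val ((AlgEquiv.ofInjective ι ι.toRingHom.injective).apply_symm_apply ⟨τ x, hmem x⟩)
    have hle : ∀ x ∈ RingHom.ker τ, τ' x = 0 := fun x hx => ι.toRingHom.injective <| by
      rw [map_zero]
      exact (RingHom.congr_fun hτ' x).trans hx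
    refine ⟨⟨⟨RingHom.ker τ, hmax⟩, ⟨Ideal.Quotient.lift _ τ' hle, ?_⟩⟩, Subtype.ext ?_⟩
    · refine RingHom.ext fun a => ι.toRingHom.injective ?_
      exact ((RingHom.congr_fun hτ' (toNormRed A a)).trans (RingHom.congr_fun hτ a)).trans
        (RingHom.congr_fun hι a).symm
    · exact hτ'

end Groth.Agent.VarBranch
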